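import Mathlib

/-! An element invariant under the inertia group separating all the other conjugates modulo the prime. -/

universe u v

namespace InertiaEtaleLib

open Polynomial Pointwise

variable {G : Type u} [Group G] [Finite G] {R : Type v} [CommRing R] [MulSemiringAction G R]
  (q : Ideal R) [q.IsPrime]

omit [q.IsPrime] in
lemma exists_mem_smul_notMem {g : G} (hg : g • q ≠ q) : ∃ s, s ∈ g • q ∧ s ∉ q := by
  by_contra h
  simp only [not_exists, not_and, not_not] at h
  have hle : g • q ≤ q := h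
  have hpow : ∀ k : ℕ, g ^ k • q ≤ q := by
    intro k
    induction k with
    | zero => simp
    | succ k ih =>
      rw [pow_succ', mul_smul]
      exact ((Ideal.pointwise_smul_le_pointwise_smul_iff).2 ih).trans hle
  refine hg (le_antisymm hle ?_)
  have hord := orderOf_pos g
  have h1 := hpow (orderOf g - 1)
  rw [← Ideal.pointwise_smul_le_pointwise_smul_iff (a := g), ← mul_smul, ← pow_succ',
    Nat.sub_add_cancel hord, pow_orderOf_eq_one, one_smul] at h1
  exact h1

omit [Finite G] [q.IsPrime] in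
lemma smul_mem_iff_of_stab {d : G} (hd : d ∈ MulAction.stabilizer G q) (x : R) : d • x ∈ q ↔ x ∈ q := by
  conv_lhs => rw [← MulAction.mem_stabilizer_iff.1 hd]
  exact Ideal.smul_mem_pointwise_smul_iff

/-- An element fixed by the decomposition group, in all the other conjugates and not in `q`. -/
lemma exists_concentrated : ∃ e : R, (∀ d ∈ MulAction.stabilizer G q, d • e = e) ∧ e ∉ q ∧
    ∀ g : G, g • q ≠ q → e ∈ g • q := by
  classical
  cases nonempty_fintype G
  choose s hs using fun g : {g : G // g • q ≠ q} => exists_mem_smul_notMem q g.2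
  set e0 := ∏ g, s g with he0
  have h0 : e0 ∉ q := fun h => by
    obtain ⟨g, -, hg⟩ := (Ideal.IsPrime.prod_mem_iff (p := q)).1 h
    exact (hs g).2 hg
  refine ⟨∏ d : MulAction.stabilizer G q, (d : G) • e0, fun d hd => ?_, fun h => ?_, fun g hg => ?_⟩
  · rw [Finset.smul_prod']
    exact Fintype.prod_equiv (Equiv.mulLeft ⟨d, hd⟩) _ _ fun x => by
      rw [smul_smul]; rfl
  · obtain ⟨d, -, hd⟩ := (Ideal.IsPrime.prod_mem_iff (p := q)).1 h
    exact h0 ((smul_mem_iff_of_stab q d.2 e0).1 hd)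
  · have h1 : e0 ∈ g • q := Ideal.mem_of_dvd _ (Finset.dvd_prod_of_mem s (Finset.mem_univ ⟨g, hg⟩))
      (hs ⟨g, hg⟩).1
    refine Ideal.mem_of_dvd _ (Finset.dvd_prod_of_mem (fun d : MulAction.stabilizer G q => (d : G) • e0)
      (Finset.mem_univ 1)) ?_
    simpa using h1

/-- An element moved modulo `q` by every element of the decomposition group outside inertia. -/
lemma exists_moved : ∃ r : R, ∀ d ∈ MulAction.stabilizer G q, d • r - r ∈ q → d ∈ q.inertia G := by
  classical
  cases nonempty_fintype G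
  set A := FixedPoints.subring R G
  have : SMulCommClass G A R := ⟨fun g a x => by
    show g • ((a : R) * x) = (a : R) * g • x
    rw [smul_mul', a.2 g]⟩
  set P := q.under A
  have : q.LiesOver P := ⟨rfl⟩
  letI := FractionRing.liftAlgebra (A ⧸ P) (FractionRing (R ⧸ q))
  set L := FractionRing (R ⧸ q)
  set D := MulAction.stabilizer G q
  set φ := IsFractionRing.stabilizerHom G P q (FractionRing (A ⧸ P)) L with hφdef
  set S := φ.range
  have : Finite S := Finite.of_surjective φ.rangeRestrict φ.rangeRestrict_surjective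
  let pb := Field.powerBasisOfFiniteOfSeparable (FixedPoints.subfield S L) L
  obtain ⟨num, den, hden, hθ⟩ := IsFractionRing.div_surjective (R ⧸ q) pb.gen
  obtain ⟨n0, rfl⟩ := Ideal.Quotient.mk_surjective num
  obtain ⟨d0, rfl⟩ := Ideal.Quotient.mk_surjective den
  have hd0 : d0 ∉ q := fun h => nonZeroDivisors.ne_zero hden (Ideal.Quotient.eq_zero_iff_mem.2 h)
  set N := ∏ d : D, (d : G) • d0 with hN
  have hNq : N ∉ q := fun h => by
    obtain ⟨d, -, hd⟩ := (Ideal.IsPrime.prod_mem_iff (p := q)).1 h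
    exact hd0 ((smul_mem_iff_of_stab q d.2 d0).1 hd)
  set M := ∏ d ∈ Finset.univ.erase (1 : D), (d : G) • d0
  have hNM : N = d0 * M := by
    rw [hN, ← Finset.mul_prod_erase _ _ (Finset.mem_univ (1 : D))]
    simp [M]
  obtain ⟨ι, hιdef⟩ : ∃ ι : R →+* L, ι = (algebraMap (R ⧸ q) L).comp (Ideal.Quotient.mk q) := ⟨_, rfl⟩
  have hι : ∀ x, ι x = 0 ↔ x ∈ q := fun x => by
    rw [hιdef, RingHom.comp_apply, map_eq_zero_iff _ (IsFractionRing.injective _ L), Ideal.Quotient.eq_zero_iff_mem]
  refine ⟨n0 * M, fun d hd hr => ?_⟩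
  have hφ : ∀ x, φ ⟨d, hd⟩ (ι x) = ι (d • x) := fun x => by
    rw [hιdef]
    simp only [RingHom.comp_apply]
    exact IsFractionRing.stabilizerHom_apply_apply_mk G P q (FractionRing (A ⧸ P)) L ⟨d, hd⟩ x
  have hNd : d • N = N := by
    rw [hN, Finset.smul_prod']
    exact Fintype.prod_equiv (Equiv.mulLeft ⟨d, hd⟩) _ _ fun x => by rw [smul_smul]; rfl
  have hθN : pb.gen = ι (n0 * M) / ι N := by
    rw [← hθ, hNM, map_mul, map_mul]
    have hM : ι M ≠ 0 := fun h => hNq (by rw [hNM]; exact Ideal.mul_mem_left _ _ ((hι M).1 h))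
    rw [mul_div_mul_right _ _ hM, hιdef]
    rfl
  have hgen : φ ⟨d, hd⟩ pb.gen = pb.gen := by
    rw [hθN, map_div₀, hφ, hφ, hNd]
    congr 1
    rw [← sub_eq_zero, ← map_sub, hι]
    exact hr
  obtain ⟨σ, hσ⟩ : ∃ σ : S, (σ : _) = φ ⟨d, hd⟩ := ⟨⟨φ ⟨d, hd⟩, ⟨⟨d, hd⟩, rfl⟩⟩, rfl⟩
  have hS : σ = 1 := by
    let f : L →ₐ[FixedPoints.subfield S L] L :=
      { MulSemiringAction.toRingHom S L σ with commutes' := fun c => c.2 σ }
    have h := pb.algHom_ext (f := f) (g := AlgHom.id _ _) (by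
      show σ.1 pb.gen = pb.gen
      rw [hσ]; exact hgen)
    refine Subtype.ext (AlgEquiv.ext fun x => ?_)
    exact DFunLike.congr_fun h x
  have hk : (⟨d, hd⟩ : D) ∈ φ.ker := by
    rw [MonoidHom.mem_ker, ← hσ, hS]; rfl
  rw [IsFractionRing.ker_stabilizerHom] at hk
  exact Ideal.coe_mem_inertia.2 hk

/-- An inertia-invariant element concentrated at `q` and separating all the cosets of inertia. -/
theorem exists_element : ∃ a : R, (∀ h ∈ q.inertia G, h • a = a) ∧ a ∉ q ∧
    (∀ g : G, g • q ≠ q → a ∈ g • q) ∧ ∀ g ∉ q.inertia G, g • a - a ∉ q := by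
  classical
  cases nonempty_fintype G
  obtain ⟨e, hefix, heq, hee⟩ := exists_concentrated (G := G) q
  obtain ⟨r, hr⟩ := exists_moved (G := G) q
  have hI : q.inertia G ≤ MulAction.stabilizer G q := Ideal.inertia_le_stabilizer q
  obtain ⟨x, hxq, hxe, hxm⟩ : ∃ x : R, x ∉ q ∧ (∀ g : G, g • q ≠ q → x ∈ g • q) ∧
      ∀ d ∈ MulAction.stabilizer G q, d • x - x ∈ q → d ∈ q.inertia G := by
    by_cases hrq : r ∈ q
    · exact ⟨e, heq, hee, fun d hd _ => hr d hd (sub_mem ((smul_mem_iff_of_stab q hd r).2 hrq) hrq)⟩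
    · refine ⟨r * e, fun h => (Ideal.IsPrime.mem_or_mem ‹_› h).elim hrq heq,
        fun g hg => Ideal.mul_mem_left _ _ (hee g hg), fun d hd h => hr d hd ?_⟩
      rw [smul_mul', hefix d hd, ← sub_mul] at h
      exact (Ideal.IsPrime.mem_or_mem ‹_› h).resolve_right heq
  obtain ⟨l, hl⟩ := ExpChar.exists (R ⧸ q)
  set n := Nat.card (q.inertia G) with hn
  have hn0 : n ≠ 0 := Nat.card_pos.ne'
  obtain ⟨k, m, hm, hkm⟩ : ∃ k m : ℕ, ((m : R ⧸ q) ≠ 0) ∧ n = l ^ k * m := by
    cases hl with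
    | zero => exact ⟨0, n, by exact_mod_cast hn0, by simp⟩
    | prime hp =>
      obtain ⟨k, m, hnd, h⟩ := Nat.exists_eq_pow_mul_and_not_dvd hn0 l hp.ne_one
      exact ⟨k, m, fun h0 => hnd ((CharP.cast_eq_zero_iff (R ⧸ q) l m).1 h0), h⟩
  have hm0 : m ≠ 0 := fun h => hm (by simp [h])
  have hlk : 0 < l ^ k := pow_pos (expChar_pos (R ⧸ q) l) k
  set F : R[X] := ∏ i : q.inertia G, (X + C ((i : G) • x))
  set a := F.coeff (l ^ k * (m - 1)) with ha
  have hfix : ∀ h ∈ q.inertia G, h • a = a := fun h hh => by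
    rw [ha, ← coeff_smul]
    congr 1
    rw [Finset.smul_prod']
    exact Fintype.prod_equiv (Equiv.mulLeft ⟨h, hh⟩) _ _ fun i => by
      rw [smul_add, smul_X, smul_C, smul_smul]; rfl
  set π := Ideal.Quotient.mk q
  have hπa : π a = (m : R ⧸ q) * π x ^ (l ^ k) := by
    have hFm : F.map π = (X + C (π x)) ^ n := by
      rw [Polynomial.map_prod, hn, Nat.card_eq_fintype_card, ← Finset.card_univ, ← Finset.prod_const]
      refine Finset.prod_congr rfl fun i _ => ?_
      rw [Polynomial.map_add, map_X, map_C, (Ideal.Quotient.eq).2 (i.2 x)]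
    have hexp : F.map π = expand (R ⧸ q) (l ^ k) ((X + C (π x ^ (l ^ k))) ^ m) := by
      rw [hFm, hkm, pow_mul, add_pow_expChar_pow, map_pow (expand _ _), map_add, expand_X, expand_C,
        map_pow C]
    rw [ha, ← coeff_map, hexp, mul_comm (l ^ k) (m - 1), coeff_expand_mul hlk, coeff_X_add_C_pow,
      Nat.choose_symm (Nat.one_le_iff_ne_zero.2 hm0), Nat.choose_one_right,
      Nat.sub_sub_self (Nat.one_le_iff_ne_zero.2 hm0), pow_one, mul_comm]
  have haq : a ∉ q := fun h => by
    rw [← Ideal.Quotient.eq_zero_iff_mem] at h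
    change π a = 0 at h
    rw [hπa, mul_eq_zero, or_iff_right hm] at h
    exact hxq (Ideal.Quotient.eq_zero_iff_mem.1 (eq_zero_of_pow_eq_zero h))
  have hae : ∀ g : G, g • q ≠ q → a ∈ g • q := fun g hg => by
    rw [ha, ← Ideal.Quotient.eq_zero_iff_mem, ← coeff_map]
    have : F.map (Ideal.Quotient.mk (g • q)) = X ^ n := by
      rw [Polynomial.map_prod, hn, Nat.card_eq_fintype_card, ← Finset.card_univ, ← Finset.prod_const]
      refine Finset.prod_congr rfl fun i _ => ?_
      rw [Polynomial.map_add, map_X, map_C, Ideal.Quotient.eq_zero_iff_mem.2, map_zero, add_zero]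
      rw [Ideal.mem_pointwise_smul_iff_inv_smul_mem, smul_smul, ← Ideal.mem_inv_pointwise_smul_iff]
      refine hxe _ fun h => hg ?_
      rw [mul_inv_rev, inv_inv, mul_smul, inv_smul_eq_iff,
        MulAction.mem_stabilizer_iff.1 (hI i.2)] at h
      exact h
    rw [this, coeff_X_pow, if_neg]
    rw [hkm]
    exact (Nat.mul_lt_mul_of_pos_left (Nat.sub_lt (Nat.pos_of_ne_zero hm0) one_pos) hlk).ne
  refine ⟨a, hfix, haq, hae, fun g hg h => ?_⟩
  by_cases hgD : g ∈ MulAction.stabilizer G q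
  · refine hg (hxm g hgD ?_)
    have hga : π (g • a) = (m : R ⧸ q) * π (g • x) ^ (l ^ k) := by
      have hm' : a - ((m : R) * x ^ (l ^ k)) ∈ q := Ideal.Quotient.eq.1 (by simpa using hπa)
      have := (smul_mem_iff_of_stab q hgD _).2 hm'
      rw [smul_sub, smul_mul', smul_pow'] at this
      have hc : g • (m : R) = m := map_natCast (MulSemiringAction.toRingHom G R g) m
      rw [hc] at this
      simpa using Ideal.Quotient.eq.2 this
    rw [← Ideal.Quotient.eq] at h ⊢
    change π _ = π _ at h ⊢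
    rw [hga, hπa] at h
    exact iterateFrobenius_inj (R ⧸ q) l k (by simpa [iterateFrobenius_def] using mul_left_cancel₀ hm h)
  · have hga : g • a ∈ q := by
      rw [← inv_inv g, ← Ideal.mem_pointwise_smul_iff_inv_smul_mem]
      exact hae _ fun hc => hgD (by rw [← inv_mem_iff]; exact hc)
    exact haq ((Submodule.sub_mem_iff_right q hga).1 h)

end InertiaEtaleLib
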