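import Mathlib

/-! Invariants of a subgroup are standard étale over the invariants of the group, away from the
derivative of the orbit polynomial of an invariant element (Lagrange interpolation). -/

universe u v

namespace InertiaEtaleLib

open Polynomial

/-- If `D` lies in all the ideals `(L c, L d)` then the product of the `L c` divides a multiple of
anything divisible by all of them, the multiplier being a power of `D`. -/
lemma prod_dvd_mul_pow {S : Type u} [CommRing S] {ι : Type v} [DecidableEq ι] (L : ι → S) (D x : S)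
    (hD : ∀ c d, c ≠ d → ∃ u w, D = u * L c + w * L d) (s : Finset ι) (hx : ∀ c ∈ s, L c ∣ x) :
    ∃ N, ∏ c ∈ s, L c ∣ x * D ^ N := by
  induction s using Finset.induction_on with
  | empty => exact ⟨0, by simp⟩
  | insert c s hc ih =>
    obtain ⟨N, hN⟩ := ih (fun d hd => hx d (Finset.mem_insert_of_mem hd))
    have key : ∀ t : Finset ι, c ∉ t → ∃ u w, D ^ t.card = u * L c + w * ∏ d ∈ t, L d := by
      intro t
      induction t using Finset.induction_on with
      | empty => exact fun _ => ⟨0, 1, by simp⟩
      | insert d t hd ih' =>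
        intro hct
        obtain ⟨u, w, h⟩ := ih' (fun h => hct (Finset.mem_insert_of_mem h))
        obtain ⟨u', w', h'⟩ := hD c d (fun h => hct (h ▸ Finset.mem_insert_self _ _))
        refine ⟨u * u' * L c + u * w' * L d + w * u' * ∏ e ∈ t, L e, w * w', ?_⟩
        rw [Finset.card_insert_of_notMem hd, Finset.prod_insert hd, pow_succ, h, h']
        ring
    obtain ⟨u, w, h⟩ := key s hc
    obtain ⟨a, ha⟩ := hN
    obtain ⟨b, hb⟩ := hx c (Finset.mem_insert_self _ _)
    refine ⟨N + s.card, a * u + b * D ^ N * w, ?_⟩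
    rw [Finset.prod_insert hc, pow_add, h]
    linear_combination (L c * u) * ha + (w * (∏ d ∈ s, L d) * D ^ N) * hb

variable {G : Type u} [Group G] [Finite G] {R : Type u} [CommRing R] [MulSemiringAction G R]

omit [Finite G] in
lemma smul_out_smul (H : Subgroup G) {w : R} (hw : ∀ h ∈ H, h • w = w) (g : G) (c : G ⧸ H) :
    g • c.out • w = (g • c).out • w := by
  have h1 : ((g • c).out : G ⧸ H) = ((g * c.out : G) : G ⧸ H) := by
    rw [QuotientGroup.out_eq']
    conv_lhs => rw [← QuotientGroup.out_eq' c]
    rfl
  rw [QuotientGroup.eq] at h1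
  conv_rhs => rw [← hw _ h1]
  rw [smul_smul, smul_smul, mul_inv_cancel_left]

omit [Finite G] in
lemma out_one_smul (H : Subgroup G) {w : R} (hw : ∀ h ∈ H, h • w = w) :
    ((1 : G) : G ⧸ H).out • w = w := by
  apply hw
  have := (QuotientGroup.eq (s := H)).1 (QuotientGroup.out_eq' ((1 : G) : G ⧸ H))
  rwa [mul_one, inv_mem_iff] at this

variable {A B : Type u} [CommRing A] [CommRing B] [Algebra A B] [Algebra B R] [Algebra A R]
  [IsScalarTower A B R]

variable (H : Subgroup G) (hAinj : Function.Injective (algebraMap A R))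
  (hBinj : Function.Injective (algebraMap B R))
  (hA : ∀ y : R, (∀ g : G, g • y = y) → y ∈ Set.range (algebraMap A R))
  (hA' : ∀ (g : G) (x : A), g • algebraMap A R x = algebraMap A R x)
  (hB' : ∀ (b : B), ∀ h ∈ H, h • algebraMap B R b = algebraMap B R b)

omit [Finite G] in
include hA in
lemma exists_descent (f : R[X]) (hf : ∀ g : G, g • f = f) : ∃ p : A[X], p.map (algebraMap A R) = f :=
  (mem_lifts _).1 <| (lifts_iff_coeff_lifts f).2 fun n => hA _ fun g => by rw [← coeff_smul, hf g]

open scoped Classical in
omit [Finite G] in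
lemma smul_orbit_prod (H : Subgroup G) [Fintype (G ⧸ H)] {a : R} (ha : ∀ h ∈ H, h • a = a) (g : G) :
    g • ∏ c : G ⧸ H, (X - C (c.out • a)) = ∏ c : G ⧸ H, (X - C (c.out • a)) := by
  rw [Finset.smul_prod']
  refine Fintype.prod_equiv (MulAction.toPerm g) _ _ fun c => ?_
  rw [smul_sub, smul_X, smul_C, smul_out_smul H ha]
  rfl

include hAinj hBinj hA hA' hB' in
/-- The orbit polynomial of an invariant element makes the invariants standard étale. -/
theorem exists_isStandardEtale (a : B) :
    ∃ P : A[X], P.Monic ∧ (∃ s : Finset (G ⧸ H), (∀ c, c ∈ s ↔ c ≠ ((1 : G) : G ⧸ H)) ∧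
      algebraMap B R (aeval a (derivative P)) =
        ∏ c ∈ s, (algebraMap B R a - c.out • algebraMap B R a)) ∧
      Algebra.IsStandardEtale A (Localization.Away (aeval a (derivative P))) := by
  classical
  cases nonempty_fintype (G ⧸ H)
  set α := algebraMap B R a with hα
  have ha : ∀ h ∈ H, h • α = α := hB' a
  set one : G ⧸ H := ((1 : G) : G ⧸ H)
  set L : G ⧸ H → R[X] := fun c => X - C (c.out • α) with hL
  obtain ⟨P', hP'⟩ := exists_descent hA (∏ c, L c) (smul_orbit_prod H ha)
  have hmon : (∏ c, L c).Monic := monic_prod_of_monic _ _ fun c _ => monic_X_sub_C _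
  have hPm : P'.Monic := hAinj |> fun hi => monic_of_injective hi (by rw [hP']; exact hmon)
  have hev : ∀ p : A[X], algebraMap B R (aeval a p) = (p.map (algebraMap A R)).eval α := fun p => by
    rw [eval_map, ← aeval_def, aeval_algebraMap_apply]
  have hD : (derivative P').map (algebraMap A R) = derivative (∏ c, L c) := by
    rw [← derivative_map, hP']
  have hDsum : derivative (∏ c, L c) = ∑ c, ∏ d ∈ Finset.univ.erase c, L d := by
    rw [derivative_prod_finset]
    exact Finset.sum_congr rfl fun c _ => by simp [hL]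
  have hLone : (L one).eval α = 0 := by
    simp only [hL, eval_sub, eval_X, eval_C, one, out_one_smul H ha, sub_self]
  have hterm : ∀ c ≠ one, ∀ v : R[X], (v * ∏ d ∈ Finset.univ.erase c, L d).eval α = 0 := by
    intro c hc v
    rw [eval_mul, eval_prod, Finset.prod_eq_zero (Finset.mem_erase.2 ⟨hc.symm, Finset.mem_univ _⟩) hLone,
      mul_zero]
  have hg : algebraMap B R (aeval a (derivative P')) =
      ∏ c ∈ Finset.univ.erase one, (α - c.out • α) := by
    rw [hev, hD, hDsum, eval_finsetSum, Finset.sum_eq_single one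
      (fun c _ hc => by simpa using hterm c hc 1) (fun h => absurd (Finset.mem_univ _) h), eval_prod]
    exact Finset.prod_congr rfl fun c _ => by simp [hL]
  have hPa : aeval a P' = 0 := hBinj (by
    rw [hev, hP', map_zero, eval_prod, Finset.prod_eq_zero (Finset.mem_univ one) hLone])
  refine ⟨P', hPm, ⟨_, fun c => by simp [one], hg⟩, ?_⟩
  set g := aeval a (derivative P') with hgdef
  let Q : StandardEtalePair A := ⟨P', hPm, derivative P', 1, 0, 1, by simp⟩
  set x := algebraMap B (Localization.Away g) a with hxdef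
  have hgx : aeval x (derivative P') = algebraMap B _ g := by rw [hxdef, aeval_algebraMap_apply]
  have hx : Q.HasMap x := ⟨by rw [hxdef, aeval_algebraMap_apply, hPa, map_zero], by
    show IsUnit (aeval x (derivative P'))
    rw [hgx]
    exact IsLocalization.Away.algebraMap_isUnit _⟩
  let E : StandardEtalePresentation A Q.Ring :=
    ⟨Q, Q.X, Q.hasMap_X, by simpa [StandardEtalePair.lift_X_left] using Function.bijective_id⟩
  refine ⟨⟨⟨Q, x, hx, ⟨?_, ?_⟩⟩⟩⟩
  · rw [injective_iff_map_eq_zero]
    intro w hw
    obtain ⟨p, n, hp⟩ := E.exists_mul_aeval_x_g_pow_eq_aeval_x w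
    have h0 : aeval x p = 0 := by
      have := congr(Q.lift x hx $hp)
      simp only [E, map_mul, hw, zero_mul, ← aeval_algHom_apply, StandardEtalePair.lift_X] at this
      exact this.symm
    rw [hxdef, aeval_algebraMap_apply] at h0
    obtain ⟨⟨_, m, rfl⟩, hm⟩ := (IsLocalization.map_eq_zero_iff (.powers g) _ _).1 h0
    set T : R[X] := (derivative P' ^ m * p).map (algebraMap A R) with hT
    have hroot : T.eval α = 0 := by
      have := congrArg (algebraMap B R) hm
      rw [map_zero] at this
      rw [hT, ← hev, map_mul, map_pow, ← hgdef]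
      exact this
    have hdvd : ∀ c, L c ∣ T := fun c => by
      rw [hL, dvd_iff_isRoot, IsRoot]
      have hfix : c.out • T = T := by
        ext i
        rw [coeff_smul, hT, coeff_map, hA']
      conv_lhs => rw [← hfix]
      rw [smul_eval_smul, hroot, smul_zero]
    have hpair : ∀ c d, c ≠ d → ∃ u w, derivative (∏ c, L c) = u * L c + w * L d := fun c d hcd => by
      have : derivative (∏ c, L c) ∈ Ideal.span {L c, L d} := by
        rw [hDsum]
        refine sum_mem fun e _ => ?_
        by_cases hec : e = c
        · exact Ideal.mem_of_dvd _ (Finset.dvd_prod_of_mem L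
            (Finset.mem_erase.2 ⟨by rw [hec]; exact hcd.symm, Finset.mem_univ d⟩))
            (Ideal.subset_span (by simp))
        · exact Ideal.mem_of_dvd _ (Finset.dvd_prod_of_mem L
            (Finset.mem_erase.2 ⟨Ne.symm hec, Finset.mem_univ c⟩)) (Ideal.subset_span (by simp))
      obtain ⟨u, w, h⟩ := Ideal.mem_span_pair.1 this
      exact ⟨u, w, h.symm⟩
    obtain ⟨N, hN⟩ := prod_dvd_mul_pow L _ T hpair Finset.univ fun c _ => hdvd c
    rw [← hD, ← hP', hT, ← Polynomial.map_pow, ← Polynomial.map_mul,
      map_dvd_map _ hAinj hPm] at hN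
    obtain ⟨v, hv⟩ := hN
    have hu : IsUnit (aeval Q.X (derivative P')) := Q.hasMap_X.2
    have := congrArg (aeval Q.X) hv
    rw [map_mul, map_mul, map_mul, map_pow, map_pow, show aeval Q.X P' = 0 from Q.hasMap_X.1,
      zero_mul] at this
    have hp0 : aeval Q.X p = 0 :=
      (hu.pow m).mul_right_eq_zero.1 ((hu.pow N).mul_left_eq_zero.1 this)
    exact (hu.pow n).mul_left_eq_zero.1 (hp.trans hp0)
  · intro z
    obtain ⟨b, ⟨_, m, rfl⟩, rfl⟩ := IsLocalization.exists_mk'_eq (Submonoid.powers g) z
    set β := algebraMap B R b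
    obtain ⟨q, hq⟩ := exists_descent hA (∑ c, C (c.out • β) * ∏ d ∈ Finset.univ.erase c, L d) (by
      intro γ
      rw [Finset.smul_sum]
      refine Fintype.sum_equiv (MulAction.toPerm γ) _ _ fun c => ?_
      rw [smul_mul', smul_C, smul_out_smul H (hB' b), Finset.smul_prod']
      congr 1
      refine Finset.prod_equiv (MulAction.toPerm γ) (fun d => ?_) (fun d _ => ?_)
      · simp [MulAction.toPerm_apply]
      · simp only [hL, smul_sub, smul_X, smul_C, smul_out_smul H ha]
        rfl)
    have hbq : aeval a q = b * g := hBinj (by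
      rw [hev, hq, eval_finsetSum, Finset.sum_eq_single one (fun c _ hc => hterm c hc _)
        (fun h => absurd (Finset.mem_univ _) h), map_mul, hg, eval_mul, eval_C, eval_prod,
        out_one_smul H (hB' b)]
      congr 1
      exact Finset.prod_congr rfl fun c _ => by simp [hL])
    have hu : IsUnit (aeval Q.X (derivative P')) := Q.hasMap_X.2
    refine ⟨aeval Q.X q * ↑(hu.pow (m + 1)).unit⁻¹, ?_⟩
    rw [IsLocalization.eq_mk'_iff_mul_eq]
    set r : Q.Ring := ↑(hu.pow (m + 1)).unit⁻¹
    have hr : r * aeval Q.X (derivative P') ^ (m + 1) = 1 := (hu.pow (m + 1)).val_inv_mul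
    have h1 := congr(Q.lift x hx $hr)
    simp only [map_mul, map_pow, map_one, ← aeval_algHom_apply, StandardEtalePair.lift_X, hgx] at h1
    rw [map_mul, ← aeval_algHom_apply, StandardEtalePair.lift_X,
      show aeval x q = algebraMap B _ (b * g) by rw [hxdef, aeval_algebraMap_apply, hbq]]
    simp only [map_mul, map_pow]
    linear_combination (algebraMap B (Localization.Away g) b) * h1

end InertiaEtaleLib
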