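import Mathlib

/-! Lifting inertia from a quotient group, and along a Galois extension of arbitrary degree. -/

set_option autoImplicit false
universe u v

namespace InertiaEtaleLib

open Pointwise

/-- An automorphism trivial modulo `q` on the invariants of a finite normal subgroup `N` is corrected
by an element of `N` to an inertia element. -/
theorem exists_mul_mem_inertia {G : Type u} [Group G] {R : Type v} [CommRing R] [MulSemiringAction G R]
    (N : Subgroup G) [Finite N] [N.Normal] (q : Ideal R) [q.IsPrime] (σ : G)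
    (hσ : ∀ x : R, (∀ n ∈ N, n • x = x) → σ • x - x ∈ q) :
    ∃ n ∈ N, n * σ ∈ q.inertia G := by
  classical
  set A := FixedPoints.subring R N
  have : SMulCommClass N A R := ⟨fun g a x => by
    show g • ((a : R) * x) = (a : R) * g • x
    rw [smul_mul', a.2 g]⟩
  have : Algebra.IsInvariant A R N := ⟨fun x hx => ⟨⟨x, hx⟩, rfl⟩⟩
  have hfixσ : ∀ (γ : G) (x : R), (∀ n ∈ N, n • x = x) → ∀ n ∈ N, n • γ • x = γ • x := by
    intro γ x hx n hn
    have h1 : γ⁻¹ * n * γ ∈ N := by simpa using ‹N.Normal›.conj_mem n hn γ⁻¹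
    calc n • γ • x = γ • (γ⁻¹ * n * γ) • x := by rw [smul_smul, smul_smul]; group
      _ = γ • x := by rw [hx _ h1]
  obtain ⟨n, hn⟩ := Algebra.IsInvariant.exists_smul_of_under_eq A R N (σ • q) q (by
    ext ⟨x, hx⟩
    show x ∈ σ • q ↔ x ∈ q
    rw [Ideal.mem_pointwise_smul_iff_inv_smul_mem]
    have h := hσ _ (hfixσ σ⁻¹ x fun m hm => hx ⟨m, hm⟩)
    rw [smul_inv_smul] at h
    exact ⟨fun h' => by simpa using add_mem h h', fun h' => by simpa using sub_mem h' h⟩)
  set τ := (n : G) * σ
  have hτq : τ • q = q := by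
    rw [mul_smul]; exact hn.symm
  have hτA : ∀ x : R, (∀ m ∈ N, m • x = x) → τ • x - x ∈ q := fun x hx => by
    rw [mul_smul, hfixσ σ x hx _ n.2]
    exact hσ x hx
  set P := q.under A
  have : q.LiesOver P := ⟨rfl⟩
  let e : (R ⧸ q) ≃ₐ[A ⧸ P] (R ⧸ q) :=
    AlgEquiv.ofRingEquiv (f := Ideal.quotientEquiv q q (MulSemiringAction.toRingEquiv G R τ)
      (by
        conv_lhs => rw [← hτq]
        rfl)) (fun c => by
      obtain ⟨c, rfl⟩ := Ideal.Quotient.mk_surjective c
      show Ideal.Quotient.mk q (τ • (c : R)) = Ideal.Quotient.mk q (c : R)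
      exact Ideal.Quotient.eq.2 (hτA _ fun m hm => c.2 ⟨m, hm⟩))
  obtain ⟨⟨m, hm⟩, hme⟩ := Ideal.Quotient.stabilizerHom_surjective N P q e
  refine ⟨(m : G)⁻¹ * n, mul_mem (inv_mem m.2) n.2, fun x => ?_⟩
  have h := DFunLike.congr_fun hme (Ideal.Quotient.mk q x)
  change Ideal.Quotient.mk q ((m : G) • x) = Ideal.Quotient.mk q (τ • x) at h
  have h' := Ideal.Quotient.eq.1 h
  have hmq : (m : G)⁻¹ • q = q := by
    rw [inv_smul_eq_iff]
    exact (MulAction.mem_stabilizer_iff.1 hm).symm
  have := Ideal.smul_mem_pointwise_smul (m : G)⁻¹ _ _ h'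
  rw [hmq, smul_sub, inv_smul_smul] at this
  show ((m : G)⁻¹ * n * σ) • x - x ∈ q
  rw [mul_assoc, mul_smul, ← neg_sub]
  exact neg_mem this

variable {A K L : Type u} [CommRing A] [Field K] [Field L] [Algebra A K] [Algebra K L] [Algebra A L]
  [IsScalarTower A K L]

theorem isIntegral_algEquiv (σ : L ≃ₐ[K] L) (x : integralClosure A L) : IsIntegral A (σ (x : L)) :=
  x.2.map ((σ : L →ₐ[K] L).restrictScalars A)

theorem isOpen_setOf_apply [IsGalois K L] (x : L) (P : L → Prop) :
    IsOpen {τ : L ≃ₐ[K] L | P (τ x)} := by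
  rw [isOpen_iff_mem_nhds]
  intro τ hτ
  have : FiniteDimensional K (IntermediateField.adjoin K ({x} : Set L)) :=
    IntermediateField.adjoin.finiteDimensional (Algebra.IsIntegral.isIntegral x)
  have hU := IntermediateField.fixingSubgroup_isOpen (IntermediateField.adjoin K ({x} : Set L))
  refine Filter.mem_of_superset ((hU.leftCoset τ).mem_nhds
    ⟨1, one_mem _, by simp⟩) ?_
  rintro _ ⟨u, hu, rfl⟩
  show P ((τ * u) x)
  rw [AlgEquiv.mul_apply, (IntermediateField.mem_fixingSubgroup_iff _ _).1 hu x
    (IntermediateField.mem_adjoin_simple_self K x)]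
  exact hτ

theorem isClosed_setOf_apply [IsGalois K L] (x : L) (P : L → Prop) :
    IsClosed {τ : L ≃ₐ[K] L | P (τ x)} :=
  isOpen_compl_iff.1 (isOpen_setOf_apply x fun y => ¬ P y)

/-- An automorphism acting trivially modulo `q` on the integral elements of a normal subfield agrees
there with an element of the inertia group. -/
theorem exists_lift_inertia [IsGalois K L] (q : Ideal (integralClosure A L)) [q.IsPrime]
    (E : IntermediateField K L) [Normal K E] (σ : L ≃ₐ[K] L)
    (hσ : ∀ x : integralClosure A L, (x : L) ∈ E →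
      (⟨σ x, isIntegral_algEquiv σ x⟩ : integralClosure A L) - x ∈ q) :
    ∃ τ : L ≃ₐ[K] L, (∀ x ∈ E, τ x = σ x) ∧
      ∀ x : integralClosure A L, (⟨τ x, isIntegral_algEquiv τ x⟩ : integralClosure A L) - x ∈ q := by
  classical
  let F : E ⊕ integralClosure A L → Set (L ≃ₐ[K] L) := Sum.elim (fun y => {τ | τ (y : L) = σ y})
    (fun x => {τ | ∀ h : IsIntegral A (τ (x : L)), (⟨τ x, h⟩ : integralClosure A L) - x ∈ q})
  have hclosed : ∀ i, IsClosed (F i) := by
    rintro (y | x)
    · exact isClosed_setOf_apply (y : L) fun z => z = σ y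
    · exact isClosed_setOf_apply (x : L) fun z => ∀ h : IsIntegral A z,
        (⟨z, h⟩ : integralClosure A L) - x ∈ q
  suffices hfip : ∀ t : Finset (E ⊕ integralClosure A L), (Set.univ ∩ ⋂ i ∈ t, F i).Nonempty by
    obtain ⟨τ, -, hτ⟩ := isCompact_univ.inter_iInter_nonempty F hclosed hfip
    rw [Set.mem_iInter] at hτ
    exact ⟨τ, fun x hx => hτ (.inl ⟨x, hx⟩), fun x => hτ (.inr x) _⟩
  intro t
  let val : E ⊕ integralClosure A L → L := Sum.elim (fun y => (y : L)) (fun x => (x : L))
  let M := FiniteGaloisIntermediateField.adjoin K ((t.image val : Finset L) : Set L)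
  have hM : ∀ i ∈ t, val i ∈ M.toIntermediateField := fun i hi =>
    FiniteGaloisIntermediateField.subset_adjoin K _ (by
      rw [Finset.coe_image]; exact Set.mem_image_of_mem _ hi)
  let B := integralClosure A M.toIntermediateField
  let ι : B →ₐ[A] integralClosure A L :=
    AlgHom.mapIntegralClosure ((IntermediateField.val M.toIntermediateField).restrictScalars A)
  let Gm := M.toIntermediateField ≃ₐ[K] M.toIntermediateField
  letI : MulSemiringAction Gm B :=
    MulSemiringAction.compHom B (
      { toFun := fun γ => (γ.restrictScalars A).mapIntegralClosure.toRingEquiv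
        map_one' := RingEquiv.ext fun x => Subtype.ext rfl
        map_mul' := fun _ _ => RingEquiv.ext fun x => Subtype.ext rfl } : Gm →* (B ≃+* B))
  have hsmul : ∀ (γ : Gm) (x : B), ((γ • x : B) : M.toIntermediateField) = γ x := fun _ _ => rfl
  set σ' : Gm := σ.restrictNormal M.toIntermediateField
  have hσ' : ∀ x : M.toIntermediateField, ((σ' x : M.toIntermediateField) : L) = σ x := fun x =>
    σ.restrictNormal_commutes M.toIntermediateField x
  let N : Subgroup Gm :=
    { carrier := {γ | ∀ x : M.toIntermediateField, (x : L) ∈ E → γ x = x}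
      one_mem' := fun x _ => rfl
      mul_mem' := fun {a b} ha hb x hx => by rw [AlgEquiv.mul_apply, hb x hx, ha x hx]
      inv_mem' := fun {a} ha x hx => by
        conv_lhs => rw [← ha x hx]
        exact a.symm_apply_apply x }
  have : N.Normal := ⟨fun a ha γ x hx => by
    have hmem : ((γ⁻¹ x : M.toIntermediateField) : L) ∈ E := by
      obtain ⟨g, hg⟩ := AlgEquiv.restrictNormalHom_surjective (K₁ := M.toIntermediateField) L γ⁻¹
      rw [← hg, show (((AlgEquiv.restrictNormalHom M.toIntermediateField g) x : M.toIntermediateField) : L) =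
        g (x : L) from g.restrictNormal_commutes M.toIntermediateField x]
      have h3 := g.restrictNormal_commutes E ⟨(x : L), hx⟩
      exact h3 ▸ (g.restrictNormal E ⟨(x : L), hx⟩).2
    rw [AlgEquiv.mul_apply, AlgEquiv.mul_apply, ha _ hmem]
    exact γ.apply_symm_apply x⟩
  obtain ⟨n, hn, hni⟩ := exists_mul_mem_inertia N (q.comap ι) σ' (by
    intro x hx
    have hxE : ((x : M.toIntermediateField) : L) ∈ E := by
      have : (x : M.toIntermediateField) ∈ IntermediateField.fixedField N :=
        (IntermediateField.mem_fixedField_iff _ _).2 fun γ hγ => congrArg Subtype.val (hx γ hγ)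
      have hN : N = (E.comap (IntermediateField.val M.toIntermediateField)).fixingSubgroup := by
        ext γ
        rw [IntermediateField.mem_fixingSubgroup_iff]
        rfl
      rw [hN, IsGalois.fixedField_fixingSubgroup] at this
      exact this
    have h := hσ (ι x) hxE
    show ι (σ' • x - x) ∈ q
    convert h using 1
    rw [map_sub]
    congr 1
    exact Subtype.ext (hσ' x))
  refine ⟨AlgEquiv.liftNormal (n * σ') L, Set.mem_univ _, Set.mem_iInter₂.2 fun i hi => ?_⟩
  have hcomm : ∀ x : M.toIntermediateField, AlgEquiv.liftNormal (n * σ') L (x : L) = ((n * σ') x : L) :=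
    fun x => AlgEquiv.liftNormal_commutes (n * σ') L x
  rcases i with y | x
  · show AlgEquiv.liftNormal (n * σ') L (y : L) = σ y
    have := hcomm ⟨y, hM _ hi⟩
    rw [this, AlgEquiv.mul_apply, hn _ (by
      rw [hσ']
      have h3 := σ.restrictNormal_commutes E y
      exact h3 ▸ (σ.restrictNormal E y).2), hσ']
  · intro h
    have hint : IsIntegral A (⟨(x : L), hM _ hi⟩ : M.toIntermediateField) := by
      refine (isIntegral_algHom_iff ((IntermediateField.val M.toIntermediateField).restrictScalars A)
        Subtype.val_injective).1 ?_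
      exact x.2
    have h1 := hni ⟨_, hint⟩
    change ι _ ∈ q at h1
    convert h1 using 1
    rw [map_sub]
    congr 1
    refine Subtype.ext ?_
    exact hcomm ⟨_, hM _ hi⟩

end InertiaEtaleLib
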