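import Groth.Agent.IndEtLib.Basic
import Mathlib

/-! An algebra in which every finite set lies in an étale subalgebra is ind-étale. -/

set_option autoImplicit false
set_option linter.style.haveILetI false
set_option backward.isDefEq.respectTransparency false
set_option backward.defeqAttrib.useBackward true
universe u

open CategoryTheory CategoryTheory.Limits

namespace InertiaEtaleLib

variable (K : Type u) [CommRing K] (B : Type u) [CommRing B] [Algebra K B]

theorem isIndEtale_of_finset
    (h : ∀ s : Finset B, ∃ S : Subalgebra K B, Algebra.Etale K S ∧ (s : Set B) ⊆ S) :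
    EtPBC.IsIndEtale K B := by
  classical
  let J := {S : Subalgebra K B // Algebra.Etale K S}
  haveI : Nonempty J := let ⟨S, hS, _⟩ := h ∅; ⟨⟨S, hS⟩⟩
  haveI : IsDirectedOrder J := ⟨fun i j => by
    have := i.2; have := j.2
    obtain ⟨s, hs⟩ := (Subalgebra.fg_iff_finiteType i.1).2 inferInstance
    obtain ⟨t, ht⟩ := (Subalgebra.fg_iff_finiteType j.1).2 inferInstance
    obtain ⟨S, hS, hsub⟩ := h (s ∪ t)
    rw [Finset.coe_union, Set.union_subset_iff] at hsub
    exact ⟨⟨S, hS⟩, Subtype.mk_le_mk.2 (hs ▸ Algebra.adjoin_le hsub.1),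
      Subtype.mk_le_mk.2 (ht ▸ Algebra.adjoin_le hsub.2)⟩⟩
  haveI : IsFiltered J := isFiltered_of_directed_le_nonempty J
  let D : J ⥤ CommRingCat.{u} :=
    { obj := fun j => CommRingCat.of j.1
      map := fun f => CommRingCat.ofHom (Subalgebra.inclusion (leOfHom f)).toRingHom }
  let t : (Functor.const J).obj (CommRingCat.of K) ⟶ D :=
    { app := fun j => CommRingCat.ofHom (algebraMap K j.1)
      naturality := fun i j f => by
        ext r; exact congrArg Subtype.val ((Subalgebra.inclusion (leOfHom f)).commutes r).symm }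
  let s : D ⟶ (Functor.const J).obj (CommRingCat.of B) :=
    { app := fun j => CommRingCat.ofHom j.1.val.toRingHom
      naturality := fun i j f => by ext x; rfl }
  have hsurj : ∀ x : B, ∃ (j : J) (y : j.1), x = (y : B) := fun x =>
    let ⟨S, hS, hsub⟩ := h {x}
    ⟨⟨S, hS⟩, ⟨x, hsub (by simp)⟩, rfl⟩
  have hinj : ∀ (i : J) (x y : i.1), (x : B) = (y : B) → ∃ (k : J) (f : i ⟶ k),
      Subalgebra.inclusion (leOfHom f) x = Subalgebra.inclusion (leOfHom f) y :=
    fun i x y h => ⟨i, 𝟙 i, by rw [Subtype.ext h]⟩
  have hc : IsColimit (Cocone.mk _ s) :=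
    haveI : PreservesColimitsOfShape J (forget CommRingCat.{u}) :=
      PreservesFilteredColimitsOfSize.preserves_filtered_colimits _
    haveI : ReflectsColimit D (forget CommRingCat.{u}) := reflectsColimit_of_reflectsIsomorphisms D _
    isColimitOfReflects (forget CommRingCat.{u})
      (Types.FilteredColimit.isColimitOf' _ _ hsurj hinj)
  rw [IndEtLib.isIndEtale_iff]
  refine ⟨J, inferInstance, inferInstance, D, t, s, hc, fun j => ⟨?_, ?_⟩⟩
  · exact RingHom.etale_algebraMap.2 j.2
  · ext r
    rfl

end InertiaEtaleLib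

namespace InertiaEtaleLib

/-- A standard étale localization mapped injectively gives an étale subalgebra. -/
theorem exists_etale_subalgebra {A S C : Type u} [CommRing A] [CommRing S] [CommRing C] [Algebra A S]
    [Algebra A C] (f : S →ₐ[A] C) (hf : Function.Injective f) (g d : S)
    [Algebra.IsStandardEtale A (Localization.Away g)] (hg : IsUnit (f g)) (hd : IsUnit (f d)) :
    ∃ T : Subalgebra A C, Algebra.Etale A T ∧ (∀ x, f x ∈ T) ∧ ∀ y, f d * y = 1 → y ∈ T := by
  let T := Localization.Away (algebraMap S (Localization.Away g) d)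
  have : IsLocalization.Away (g * d) T :=
    mul_comm d g ▸ IsLocalization.Away.mul (Localization.Away g) T g d
  have : Algebra.IsStandardEtale A T :=
    Algebra.IsStandardEtale.of_isLocalizationAway (algebraMap S (Localization.Away g) d)
  have hu : IsUnit (f (g * d)) := by rw [map_mul]; exact hg.mul hd
  let φ : T →ₐ[A] C := IsLocalization.Away.liftAlgHom (g * d) hu
  have hφmap : ∀ x, φ (algebraMap S T x) = f x := fun x => by
    show IsLocalization.Away.liftAlgHom (g * d) hu (algebraMap S T x) = _
    simp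
  have hφinj : Function.Injective φ := by
    rw [injective_iff_map_eq_zero]
    intro z hz
    obtain ⟨b, m, rfl⟩ := IsLocalization.exists_mk'_eq (Submonoid.powers (g * d)) z
    rw [IsLocalization.mk'_eq_zero_iff]
    refine ⟨1, ?_⟩
    have h0 : f b = 0 := by
      rw [← hφmap, ← IsLocalization.mk'_spec T b m, map_mul, hz, zero_mul]
    rw [OneMemClass.coe_one, one_mul]
    exact hf (h0.trans (map_zero f).symm)
  refine ⟨φ.range, Algebra.Etale.of_equiv (AlgEquiv.ofInjective φ hφinj),
    fun x => ⟨_, hφmap x⟩, fun y hy => ?_⟩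
  obtain ⟨r, hr⟩ : IsUnit (algebraMap S T d) :=
    isUnit_of_dvd_unit (map_dvd _ (dvd_mul_left d g)) (IsLocalization.Away.algebraMap_isUnit (g * d))
  refine ⟨(↑r⁻¹ : T), ?_⟩
  have : f d * φ ↑r⁻¹ = 1 := by rw [← hφmap, ← map_mul, ← hr, Units.mul_inv, map_one]
  exact hd.mul_left_cancel (this.trans hy.symm)

end InertiaEtaleLib
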